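import Cfsg.Agent.Lib.Grp.CubeSpectrum.Semidirect

/-!
# A soluble companion of the cube of a small Ree group

With pairwise coprime atoms `a = (2, 3, y, x, D, F)` the maximal element orders of `R³` are the eleven
monomials `topVec`; the semidirect products below have exactly the same element orders.
-/

set_option autoImplicit false

namespace Cfsg.Agent.Grp.CubeSpectrum

/-- a monomial in the atoms -/
def ev (a v : Fin 6 → ℕ) : ℕ := ∏ i, a i ^ v i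

/-- the maximal element orders of a small Ree group -/
def typeVec : List (Fin 6 → ℕ) :=
  [![1, 1, 0, 0, 0, 0], ![0, 2, 0, 0, 0, 0], ![1, 0, 1, 0, 0, 0], ![1, 0, 0, 1, 0, 0],
    ![0, 0, 0, 0, 1, 0], ![0, 0, 0, 0, 0, 1]]

/-- the maximal element orders of the cube -/
def topVec : List (Fin 6 → ℕ) :=
  [![1, 2, 1, 1, 0, 0], ![1, 2, 1, 0, 1, 0], ![1, 2, 1, 0, 0, 1], ![1, 2, 0, 1, 1, 0],
    ![1, 2, 0, 1, 0, 1], ![1, 0, 1, 1, 1, 0], ![1, 0, 1, 1, 0, 1], ![1, 0, 1, 0, 1, 1],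
    ![1, 0, 0, 1, 1, 1], ![0, 2, 0, 0, 1, 1], ![1, 1, 0, 0, 1, 1]]

/-- the numbers dividing one of the maximal orders of the cube -/
def cubeSet (a : Fin 6 → ℕ) : Set ℕ := {d | ∃ l ∈ topVec, d ∣ ev a l}

theorem ev_dvd_ev (a : Fin 6 → ℕ) {u v : Fin 6 → ℕ} (h : ∀ i, u i ≤ v i) : ev a u ∣ ev a v :=
  Finset.prod_dvd_prod_of_dvd _ _ fun i _ => pow_dvd_pow _ (h i)

theorem ev_dvd {a v : Fin 6 → ℕ} {z : ℕ} (ha : ∀ i j, i ≠ j → (a i).Coprime (a j))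
    (h : ∀ i, a i ^ v i ∣ z) : ev a v ∣ z :=
  Finset.prod_dvd_of_isRelPrime
    (fun i _ j _ hij => Nat.coprime_iff_isRelPrime.1 (Nat.Coprime.pow _ _ (ha i j hij)))
    fun i _ => h i

theorem eq_lcm_gcd {d a b : ℕ} (hd : d ≠ 0) (ha : a ≠ 0) (hb : b ≠ 0) (h : d ∣ Nat.lcm a b) :
    d = Nat.lcm (Nat.gcd d a) (Nat.gcd d b) := by
  have ga : Nat.gcd d a ≠ 0 := (Nat.gcd_pos_of_pos_left _ (Nat.pos_of_ne_zero hd)).ne'
  have gb : Nat.gcd d b ≠ 0 := (Nat.gcd_pos_of_pos_left _ (Nat.pos_of_ne_zero hd)).ne'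
  refine Nat.eq_of_factorization_eq hd (Nat.lcm_ne_zero ga gb) fun p => ?_
  have h' := (Nat.factorization_le_iff_dvd hd (Nat.lcm_ne_zero ha hb)).2 h p
  rw [Nat.factorization_lcm ha hb, Finsupp.sup_apply] at h'
  rw [Nat.factorization_lcm ga gb, Nat.factorization_gcd hd ha, Nat.factorization_gcd hd hb,
    Finsupp.sup_apply, Finsupp.inf_apply, Finsupp.inf_apply]
  omega

theorem type_sup : ∀ u ∈ typeVec, ∀ v ∈ typeVec, ∀ w ∈ typeVec, ∃ l ∈ topVec,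
    ∀ i, u i ≤ l i ∧ v i ≤ l i ∧ w i ≤ l i := by decide +kernel

theorem top_sup : ∀ l ∈ topVec, ∃ u ∈ typeVec, ∃ v ∈ typeVec, ∃ w ∈ typeVec,
    ∀ i, l i ≤ u i ∨ l i ≤ v i ∨ l i ≤ w i := by decide +kernel

/-- The element orders of a cube. -/
theorem range_orderOf_cube {R : Type*} [Group R] [Finite R] {a : Fin 6 → ℕ}
    (ha : ∀ i j, i ≠ j → (a i).Coprime (a j)) (h0 : ∀ i, a i ≠ 0)
    (hR : Set.range (orderOf : R → ℕ) = {d | ∃ u ∈ typeVec, d ∣ ev a u}) :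
    Set.range (orderOf : R × R × R → ℕ) = cubeSet a := by
  have hev : ∀ v, ev a v ≠ 0 := fun v => Finset.prod_ne_zero_iff.2 fun i _ => pow_ne_zero _ (h0 i)
  have hsur : ∀ d : ℕ, ∀ u ∈ typeVec, d ∣ ev a u → ∃ g : R, orderOf g = d := fun d u hu hd =>
    (hR.symm ▸ (⟨u, hu, hd⟩ : d ∈ {d | ∃ u ∈ typeVec, d ∣ ev a u}) : d ∈ Set.range orderOf)
  have hmem : ∀ g : R, ∃ u ∈ typeVec, orderOf g ∣ ev a u := fun g => by
    have := Set.mem_range_self (f := (orderOf : R → ℕ)) g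
    rwa [hR] at this
  ext d
  constructor
  · rintro ⟨⟨g, g', g''⟩, rfl⟩
    obtain ⟨u, hu, hd⟩ := hmem g
    obtain ⟨v, hv, hd'⟩ := hmem g'
    obtain ⟨w, hw, hd''⟩ := hmem g''
    obtain ⟨l, hl, hle⟩ := type_sup u hu v hv w hw
    refine ⟨l, hl, ?_⟩
    rw [Prod.orderOf, Prod.orderOf]
    exact Nat.lcm_dvd (hd.trans (ev_dvd_ev a fun i => (hle i).1))
      (Nat.lcm_dvd (hd'.trans (ev_dvd_ev a fun i => (hle i).2.1))
        (hd''.trans (ev_dvd_ev a fun i => (hle i).2.2)))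
  · rintro ⟨l, hl, hd⟩
    obtain ⟨u, hu, v, hv, w, hw, hle⟩ := top_sup l hl
    have hd0 : d ≠ 0 := fun e => hev l (Nat.eq_zero_of_zero_dvd (e ▸ hd))
    have hdl : d ∣ Nat.lcm (ev a u) (Nat.lcm (ev a v) (ev a w)) := by
      refine hd.trans (ev_dvd ha fun i => ?_)
      have key : ∀ z, l i ≤ z i → a i ^ l i ∣ ev a z := fun z hz =>
        (pow_dvd_pow _ hz).trans (Finset.dvd_prod_of_mem (fun i => a i ^ z i) (Finset.mem_univ i))
      rcases hle i with h | h | h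
      · exact (key u h).trans (Nat.dvd_lcm_left _ _)
      · exact (key v h).trans ((Nat.dvd_lcm_left _ _).trans (Nat.dvd_lcm_right _ _))
      · exact (key w h).trans ((Nat.dvd_lcm_right _ _).trans (Nat.dvd_lcm_right _ _))
    have e1 := eq_lcm_gcd hd0 (hev u) (Nat.lcm_ne_zero (hev v) (hev w)) hdl
    have e2 := eq_lcm_gcd (Nat.gcd_pos_of_pos_left _ (Nat.pos_of_ne_zero hd0)).ne' (hev v) (hev w)
      (Nat.gcd_dvd_right d (Nat.lcm (ev a v) (ev a w)))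
    obtain ⟨g, hg⟩ := hsur _ u hu (Nat.gcd_dvd_right d _)
    obtain ⟨g', hg'⟩ := hsur _ v hv (Nat.gcd_dvd_right (Nat.gcd d (Nat.lcm (ev a v) (ev a w))) _)
    obtain ⟨g'', hg''⟩ := hsur _ w hw (Nat.gcd_dvd_right (Nat.gcd d (Nat.lcm (ev a v) (ev a w))) _)
    exact ⟨(g, g', g''), by rw [Prod.orderOf, Prod.orderOf, hg, hg', hg'', ← e2, ← e1]⟩

end Cfsg.Agent.Grp.CubeSpectrum
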