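import Cfsg.Agent.Lib.Grp.CubeSpectrum.Atoms

/-!
# The soluble companion

`T = (ℤ/9)² × (ℤ/y)² × ℤ/2`; seven coordinates, each with a functional on the three factors and one of
the atoms `x, D, F` as modulus.
-/

set_option autoImplicit false

namespace Cfsg.Agent.Grp.CubeSpectrum

/-- the functionals on `(ℤ/9)²` -/
def lamA : Fin 4 → ZMod 9 × ZMod 9 → ZMod 9 :=
  ![fun p => p.1, fun p => p.2, fun p => p.1 - p.2, fun p => p.2 + 3 * p.1]

/-- the functionals on `(ℤ/y)²` -/
def lamB (y : ℕ) : Fin 3 → ZMod y × ZMod y → ZMod y :=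
  ![fun p => p.1, fun p => p.2, fun p => p.1 - p.2]

/-- atom of a coordinate -/
def cR : Fin 7 → Fin 6 := ![3, 3, 4, 4, 5, 5, 5]
/-- first functional of a coordinate -/
def cA : Fin 7 → Fin 4 := ![0, 2, 0, 1, 1, 2, 3]
/-- second functional of a coordinate -/
def cB : Fin 7 → Fin 3 := ![0, 2, 1, 0, 2, 1, 2]
/-- whether the sign is used -/
def cS : Fin 7 → Bool := ![false, false, false, false, true, false, false]

/-- exponent of the order in `(ℤ/9)²` -/
def expA (α : ZMod 9 × ZMod 9) : ℕ :=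
  if α = 0 then 0 else if 3 * α.1 = 0 ∧ 3 * α.2 = 0 then 1 else 2

/-- `p` says which functionals vanish on the middle part: `0` all, `k + 1` only the `k`-th, `4` none. -/
def allows (p : Fin 5) (k : Fin 3) : Bool := p == 0 || p.val == k.val + 1

/-- the exponents of the order attached to a type of element of `T` -/
def shape (α : ZMod 9 × ZMod 9) (p : Fin 5) (s : ZMod 2) : Fin 6 → ℕ :=
  ![if s = 0 then 0 else 1, expA α, if p = 0 then 0 else 1,
    if ∃ j, cR j = 3 ∧ lamA (cA j) α = 0 ∧ allows p (cB j) ∧ (cS j → s = 0) then 1 else 0,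
    if ∃ j, cR j = 4 ∧ lamA (cA j) α = 0 ∧ allows p (cB j) ∧ (cS j → s = 0) then 1 else 0,
    if ∃ j, cR j = 5 ∧ lamA (cA j) α = 0 ∧ allows p (cB j) ∧ (cS j → s = 0) then 1 else 0]

theorem shape_le : ∀ (α : ZMod 9 × ZMod 9) (p : Fin 5) (s : ZMod 2),
    ∃ l ∈ topVec, ∀ i, shape α p s i ≤ l i := by decide +kernel

theorem exists_shape : ∀ l ∈ topVec, ∃ (α : ZMod 9 × ZMod 9) (p : Fin 5) (s : ZMod 2),
    p ≠ 4 ∧ ∀ i, l i ≤ shape α p s i := by decide +kernel

theorem expA_spec : ∀ α : ZMod 9 × ZMod 9, (3 ^ expA α) • α = 0 ∧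
    (9 : ℕ) • α = 0 ∧ ((1 : ℕ) • α = 0 → expA α = 0) ∧ ((3 : ℕ) • α = 0 → expA α ≤ 1) ∧
      expA α ≤ 2 := by decide +kernel

theorem pow_expA_dvd (α : ZMod 9 × ZMod 9) : 3 ^ expA α ∣ addOrderOf α := by
  obtain ⟨-, h9, h1, h3, h2⟩ := expA_spec α
  obtain ⟨k, hk, hd⟩ := (Nat.dvd_prime_pow Nat.prime_three).1
    (show addOrderOf α ∣ 3 ^ 2 from addOrderOf_dvd_iff_nsmul_eq_zero.2 h9)
  have hz := addOrderOf_nsmul_eq_zero α
  rw [hd] at hz ⊢
  refine pow_dvd_pow _ ?_
  interval_cases k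
  · rw [h1 hz]
  · exact h3 hz
  · exact h2

section

variable (a : Fin 6 → ℕ) (ha : ∀ i j, i ≠ j → (a i).Coprime (a j)) (h0 : a 0 = 2) (h1 : a 1 = 3)

/-- the group acting -/
abbrev Top : Type := (ZMod 9 × ZMod 9) × (ZMod (a 2) × ZMod (a 2)) × ZMod 2

include ha h0 h1

theorem cop92 : Nat.Coprime 9 (a 2 * 2) :=
  Nat.Coprime.mul_right
    (by have := (ha 1 2 (by decide)).pow_left 2; rw [h1] at this; exact this) (by norm_num)

theorem copy2 : Nat.Coprime (a 2) 2 := h0 ▸ ha 2 0 (by decide)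

/-- the functional of a coordinate -/
noncomputable def char7 (j : Fin 7) : Top a →+ ZMod (9 * (a 2 * 2)) :=
  AddMonoidHom.mk'
    (fun t => (ZMod.chineseRemainder (cop92 a ha h0 h1)).symm
      (lamA (cA j) t.1, (ZMod.chineseRemainder (copy2 a ha h0 h1)).symm
        (lamB (a 2) (cB j) t.2.1, if cS j then t.2.2 else 0)))
    (fun t u => by
      refine Eq.trans ?_ (map_add _ _ _)
      congr 1
      refine Prod.ext ?_ ?_
      · show lamA (cA j) (t.1 + u.1) = _
        fin_cases j <;> simp [cA, lamA] <;> ring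
      · refine Eq.trans ?_ (map_add _ _ _)
        dsimp only
        congr 1
        refine Prod.ext ?_ ?_
        · show lamB (a 2) (cB j) (t.2.1 + u.2.1) = _
          fin_cases j <;> simp [cB, lamB] <;> ring
        · cases cS j <;> simp)

theorem char7_eq_zero (j : Fin 7) (t : Top a) : char7 a ha h0 h1 j t = 0 ↔
    lamA (cA j) t.1 = 0 ∧ lamB (a 2) (cB j) t.2.1 = 0 ∧ (cS j → t.2.2 = 0) := by
  rw [char7, AddMonoidHom.mk'_apply, EmbeddingLike.map_eq_zero_iff, Prod.mk_eq_zero,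
    EmbeddingLike.map_eq_zero_iff, Prod.mk_eq_zero]
  cases cS j <;> simp

/-- the modulus of a coordinate -/
abbrev mod7 (j : Fin 7) : ℕ := a (cR j)

omit ha h0 h1 in
theorem mod7_cases (j : Fin 7) : cR j = 3 ∨ cR j = 4 ∨ cR j = 5 := by revert j; decide

theorem coprime_mod7 (j : Fin 7) : Nat.Coprime (9 * (a 2 * 2)) (mod7 a j) := by
  have hne : cR j ≠ 0 ∧ cR j ≠ 1 ∧ cR j ≠ 2 := by revert j; decide
  refine Nat.Coprime.mul_left ?_ (Nat.Coprime.mul_left (ha _ _ hne.2.2.symm) ?_)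
  · have := (ha 1 (cR j) hne.2.1.symm).pow_left 2
    rw [h1] at this
    exact this
  · exact h0 ▸ ha 0 (cR j) hne.1.symm

theorem coprime_addOrderOf (t : Top a) (j : Fin 7) : (addOrderOf t).Coprime (mod7 a j) := by
  refine Nat.Coprime.coprime_dvd_left (addOrderOf_dvd_iff_nsmul_eq_zero.2 ?_)
    (coprime_mod7 a ha h0 h1 j)
  obtain ⟨α, ⟨b, b'⟩, s⟩ := t
  refine Prod.ext ?_ (Prod.ext (Prod.ext ?_ ?_) ?_)
  · show (9 * (a 2 * 2)) • α = 0
    rw [mul_comm 9, ← smul_smul, (expA_spec α).2.1, smul_zero]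
  · show (9 * (a 2 * 2)) • b = 0
    simp
  · show (9 * (a 2 * 2)) • b' = 0
    simp
  · show (9 * (a 2 * 2)) • s = 0
    simp [show (2 : ZMod 2) = 0 from by decide]

variable [NeZero (a 2)]

/-- The element orders of the companion. -/
theorem range_orderOf_companion (M : ℕ) (hr : ∀ i, 1 < a i) :
    Set.range (orderOf : SD (M + 1) (char7 a ha h0 h1) (mod7 a) → ℕ) = cubeSet a := by
  classical
  rw [SD.range_orderOf (fun j => hr _) (coprime_mod7 a ha h0 h1) (coprime_addOrderOf a ha h0 h1)]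
  ext d
  constructor
  · rintro ⟨⟨α, β, s⟩, hd⟩
    -- which functionals vanish on the middle part
    obtain ⟨p, hp0, hp⟩ : ∃ p : Fin 5, (p = 0 → β = 0) ∧
        ∀ k, lamB (a 2) k β = 0 → allows p k := by
      by_cases hβ : β = 0
      · exact ⟨0, fun _ => hβ, fun k _ => rfl⟩
      obtain ⟨b, b'⟩ := β
      by_cases h : ∃ k, lamB (a 2) k (b, b') = 0
      · obtain ⟨k, hk⟩ := h
        refine ⟨⟨k.val + 1, by omega⟩, fun e => absurd (congrArg Fin.val e) (Nat.succ_ne_zero _), fun k' hk' => ?_⟩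
        have hne : ∀ k k' : Fin 3, k ≠ k' → lamB (a 2) k (b, b') = 0 →
            lamB (a 2) k' (b, b') = 0 → False := by
          intro k k' hkk h h'
          apply hβ
          fin_cases k <;> fin_cases k' <;> simp_all [lamB, sub_eq_zero]
        have : k = k' := by_contra fun e => hne k k' e hk hk'
        subst this
        simp [allows]
      · exact ⟨4, fun e => absurd e (by decide), fun k hk => absurd ⟨k, hk⟩ h⟩
    obtain ⟨l, hl, hle⟩ := shape_le α p s
    refine ⟨l, hl, hd.trans (dvd_trans ?_ (ev_dvd_ev a hle))⟩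
    have hev : ev a (shape α p s) = (2 ^ shape α p s 0 * 3 ^ shape α p s 1 * a 2 ^ shape α p s 2) *
        (a 3 ^ shape α p s 3 * a 4 ^ shape α p s 4 * a 5 ^ shape α p s 5) := by
      rw [ev, Fin.prod_univ_six, h0, h1]; ring
    rw [hev]
    refine mul_dvd_mul (addOrderOf_dvd_iff_nsmul_eq_zero.2 ?_) (Finset.lcm_dvd fun j hj => ?_)
    · refine Prod.ext ?_ (Prod.ext ?_ ?_)
      · show (2 ^ shape α p s 0 * 3 ^ shape α p s 1 * a 2 ^ shape α p s 2 : ℕ) • α = 0
        rw [mul_comm (2 ^ _) (3 ^ _), mul_assoc, mul_comm (3 ^ _), ← smul_smul,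
          show shape α p s 1 = expA α from rfl, (expA_spec α).1, smul_zero]
      · show (2 ^ shape α p s 0 * 3 ^ shape α p s 1 * a 2 ^ shape α p s 2 : ℕ) • β = 0
        rw [show shape α p s 2 = if p = 0 then 0 else 1 from rfl]
        split_ifs with hp'
        · rw [hp0 hp', smul_zero]
        · rw [pow_one, ← smul_smul, show (a 2) • β = 0 from Prod.ext (by simp) (by simp), smul_zero]
      · show (2 ^ shape α p s 0 * 3 ^ shape α p s 1 * a 2 ^ shape α p s 2 : ℕ) • s = 0
        rw [show shape α p s 0 = if s = 0 then 0 else 1 from rfl]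
        split_ifs with hs
        · rw [hs, smul_zero]
        · rw [mul_assoc, mul_comm (2 ^ 1), ← smul_smul, pow_one,
            (by decide : ∀ z : ZMod 2, (2 : ℕ) • z = 0) s, smul_zero]
    · obtain ⟨hA, hB, hS⟩ := (char7_eq_zero a ha h0 h1 j _).1 (Finset.mem_filter.1 hj).2
      rcases mod7_cases j with h | h | h
      · refine dvd_mul_of_dvd_left (dvd_mul_of_dvd_left ?_ _) _
        rw [show shape α p s 3 = _ from if_pos ⟨j, h, hA, hp _ hB, hS⟩, pow_one]; exact dvd_of_eq (congrArg a h)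
      · refine dvd_mul_of_dvd_left (dvd_mul_of_dvd_right ?_ _) _
        rw [show shape α p s 4 = _ from if_pos ⟨j, h, hA, hp _ hB, hS⟩, pow_one]; exact dvd_of_eq (congrArg a h)
      · refine dvd_mul_of_dvd_right ?_ _
        rw [show shape α p s 5 = _ from if_pos ⟨j, h, hA, hp _ hB, hS⟩, pow_one]; exact dvd_of_eq (congrArg a h)
  · rintro ⟨l, hl, hd⟩
    obtain ⟨α, p, s, hp4, hle⟩ := exists_shape l hl
    set β : ZMod (a 2) × ZMod (a 2) := ![(0, 0), (0, 1), (1, 0), (1, 1), (0, 0)] p with hβ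
    have hlam : ∀ k, allows p k → lamB (a 2) k β = 0 := by
      intro k hk
      rw [hβ]
      fin_cases p <;> fin_cases k <;> simp_all [allows, lamB]
    refine ⟨(α, β, s), hd.trans (ev_dvd ha fun i => (pow_dvd_pow _ (hle i)).trans ?_)⟩
    set o := addOrderOf ((α, β, s) : Top a) with ho
    have hα : addOrderOf α ∣ o := addOrderOf_map_dvd (AddMonoidHom.fst _ _) ((α, β, s) : Top a)
    have hs' : addOrderOf s ∣ o :=
      addOrderOf_dvd_iff_nsmul_eq_zero.2
        (congrArg (fun t : Top a => t.2.2) (addOrderOf_nsmul_eq_zero ((α, β, s) : Top a)))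
    have hb : ∀ f : (ZMod (a 2) × ZMod (a 2)) →+ ZMod (a 2), addOrderOf (f β) ∣ o := fun f =>
      addOrderOf_map_dvd (f.comp ((AddMonoidHom.fst _ _).comp (AddMonoidHom.snd _ _)))
        ((α, β, s) : Top a)
    have hfix : ∀ i : Fin 6, (∃ j, cR j = i ∧ lamA (cA j) α = 0 ∧ allows p (cB j) ∧ (cS j → s = 0)) →
        a i ∣ o * SD.fixLcm (char7 a ha h0 h1) (mod7 a) (α, β, s) := by
      rintro i ⟨j, rfl, hA, hB, hS⟩
      exact dvd_mul_of_dvd_right
        (SD.dvd_fixLcm ((char7_eq_zero a ha h0 h1 j _).2 ⟨hA, hlam _ hB, hS⟩)) _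
    fin_cases i
    · refine dvd_mul_of_dvd_left ?_ _
      rw [show shape α p s _ = if s = 0 then 0 else 1 from rfl]
      split_ifs with hs
      · simp
      · have : addOrderOf s = 2 := by
          rw [(by decide : ∀ z : ZMod 2, z ≠ 0 → z = 1) s hs, ZMod.addOrderOf_one]
        simpa [h0, this] using hs'
    · refine dvd_mul_of_dvd_left ?_ _
      rw [show shape α p s _ = expA α from rfl]
      simpa [h1] using (pow_expA_dvd α).trans hα
    · refine dvd_mul_of_dvd_left ?_ _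
      rw [show shape α p s _ = if p = 0 then 0 else 1 from rfl]
      split_ifs with hp
      · simp
      · rw [pow_one]
        have h2 : ∃ f : (ZMod (a 2) × ZMod (a 2)) →+ ZMod (a 2), f β = 1 := by
          rw [hβ]
          fin_cases p
          · simp at hp
          · exact ⟨AddMonoidHom.snd _ _, rfl⟩
          · exact ⟨AddMonoidHom.fst _ _, rfl⟩
          · exact ⟨AddMonoidHom.fst _ _, rfl⟩
          · exact absurd rfl hp4
        obtain ⟨f, hf⟩ := h2
        have := hb f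
        rw [hf, ZMod.addOrderOf_one] at this
        exact this
    all_goals
      unfold shape
      simp only [Fin.reduceFinMk, Matrix.cons_val]
      split_ifs with h
      · rw [pow_one]; exact hfix _ h
      · simp

end

end Cfsg.Agent.Grp.CubeSpectrum
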