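import Cfsg.Agent.Lib.Grp.CubeSpectrum.Companion
import Cfsg.Agent.Lib.Lie.Chev.ReeHall

/-! # The element orders of a small Ree group in atoms -/

set_option autoImplicit false
set_option maxRecDepth 4000

namespace Cfsg.Agent.Grp.CubeSpectrum

open Cfsg.Agent.Lie.Chev.G2

variable {K : Type*} [Field K] (f : K →+* K) [CharP K 3] [ExpChar K 3]
variable [Fintype K] {m : ℕ} (hf : ∀ t, f t = t ^ 3 ^ m) (hK : Fintype.card K = 3 ^ (2 * m + 1))
variable (hm : 1 ≤ m)

include hf hK hm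

theorem exists_atoms : ∃ a : Fin 6 → ℕ, (∀ i j, i ≠ j → (a i).Coprime (a j)) ∧ (∀ i, 1 < a i) ∧
    a 0 = 2 ∧ a 1 = 3 ∧
    Set.range (orderOf : ↥(Cfsg.Lie.twistedG2 K (3 ^ m)) → ℕ) =
      {d | ∃ u ∈ typeVec, d ∣ ev a u} := by
  classical
  obtain ⟨A, B, hA, hB, hcA, hcB, hprod, hAB, -, -, hcov⟩ := exists_hall f hf hK hm
  obtain ⟨hAc, hAd, hA5⟩ := hA.basic f hf hK hm
  obtain ⟨hBc, hBd, hB5⟩ := hB.basic f hf hK hm
  obtain ⟨h8, h30⟩ := q_mod m
  have hq := q_large m hm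
  obtain ⟨hqk, hqk2⟩ := qk_eq m
  have hqk7 := qk_large m hm
  set q := 3 ^ (2 * m + 1) with hqdef
  obtain ⟨y, hy⟩ : ∃ y, q - 1 = 2 * y := ⟨(q - 1) / 2, by omega⟩
  refine ⟨![2, 3, y, qk m, Nat.card ↥A, Nat.card ↥B], ?_, ?_, rfl, rfl, ?_⟩
  · have e1 : ∀ d, d ∣ y → d ∣ q - 1 := fun d hd => hd.trans ⟨2, by rw [hy]; ring⟩
    have e2 : ∀ d, d ∣ qk m → d ∣ 2 * qk m ∧ d ∣ q + 1 := fun d hd =>
      ⟨hd.trans (dvd_mul_left _ _), hd.trans ⟨4, by rw [hqk]; ring⟩⟩
    have c2 : Nat.Coprime 2 3 := by norm_num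
    have c2y : Nat.Coprime 2 y := Nat.prime_two.coprime_iff_not_dvd.2 (by omega)
    have c2k : Nat.Coprime 2 (qk m) := Nat.prime_two.coprime_iff_not_dvd.2 (by omega)
    have c3y : Nat.Coprime 3 y :=
      Nat.prime_three.coprime_iff_not_dvd.2 fun h => (not_three_dvd m (dvd_refl 3)).1 (e1 3 h)
    have c3k : Nat.Coprime 3 (qk m) :=
      Nat.prime_three.coprime_iff_not_dvd.2 fun h => (not_three_dvd m (dvd_refl 3)).2.1 (e2 3 h).1
    have cphi : ∀ S, S ∣ qphi m → Nat.Coprime 2 S ∧ Nat.Coprime 3 S ∧ Nat.Coprime y S ∧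
        Nat.Coprime (qk m) S := by
      intro S hS
      refine ⟨Nat.prime_two.coprime_iff_not_dvd.2 fun h => qphi_not_even m (h.trans hS),
        Nat.prime_three.coprime_iff_not_dvd.2 fun h => (not_three_dvd m (dvd_refl 3)).2.2 (h.trans hS),
        Nat.coprime_of_dvd fun p hp h h' => hp.ne_one ?_,
        Nat.coprime_of_dvd fun p hp h h' => hp.ne_one ?_⟩
      · exact eq_one_of_dvd_qphi m (h'.trans hS) (Or.inr (Or.inl (e1 p h)))
      · exact eq_one_of_dvd_qphi m (h'.trans hS) (Or.inr (Or.inr (e2 p h).2))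
    have cyk : Nat.Coprime y (qk m) := Nat.coprime_of_dvd fun p hp h h' => by
      have h2 := (Nat.prime_dvd_prime_iff_eq hp Nat.prime_two).1 (dvd_two_of_dvd m (e1 p h) (e2 p h').1)
      subst h2
      omega
    obtain ⟨a1, a2, a3, a4⟩ := cphi _ hAd
    obtain ⟨b1, b2, b3, b4⟩ := cphi _ hBd
    intro i j hij
    fin_cases i <;> fin_cases j <;> first
      | exact absurd rfl hij | assumption | exact Nat.Coprime.symm (by assumption)
  · intro i
    fin_cases i <;>
      simp only [Fin.reduceFinMk, Fin.zero_eta, Fin.mk_one, Matrix.cons_val,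
        Matrix.cons_val_zero, Matrix.cons_val_one] <;> omega
  · have hev : ∀ v : Fin 6 → ℕ, ev ![2, 3, y, qk m, Nat.card ↥A, Nat.card ↥B] v =
        2 ^ v 0 * 3 ^ v 1 * y ^ v 2 * qk m ^ v 3 * Nat.card ↥A ^ v 4 * Nat.card ↥B ^ v 5 := fun v =>
      Fin.prod_univ_six _
    ext d
    simp only [typeVec, List.mem_cons, List.not_mem_nil, or_false, Set.mem_setOf_eq, exists_eq_or_imp,
      exists_eq_left, hev, Matrix.cons_val, pow_zero, pow_one, mul_one, one_mul]
    rw [← hy]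
    constructor
    · rintro ⟨g, rfl⟩
      rcases orderOf_cases f hf hK hm g with h | h | h | h | h | ⟨-, h⟩ | ⟨-, h⟩ | ⟨h1, h⟩
      · rw [h]; exact Or.inl (one_dvd _)
      · rw [h]; exact Or.inl (by norm_num)
      · rw [h]; exact Or.inl (by norm_num)
      · rw [h]; exact Or.inl (by norm_num)
      · rw [h]; exact Or.inr (Or.inl (by norm_num))
      · exact Or.inr (Or.inr (Or.inl h))
      · exact Or.inr (Or.inr (Or.inr (Or.inl h)))
      · rcases hcov g h1 h with ⟨c, hc⟩ | ⟨c, hc⟩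
        · exact Or.inr (Or.inr (Or.inr (Or.inr (Or.inl
            (orderOf_conj_eq c g ▸ Subgroup.orderOf_dvd_natCard _ hc)))))
        · exact Or.inr (Or.inr (Or.inr (Or.inr (Or.inr
            (orderOf_conj_eq c g ▸ Subgroup.orderOf_dvd_natCard _ hc)))))
    · have hdown : ∀ (g : ↥(Cfsg.Lie.twistedG2 K (3 ^ m))) (N : ℕ), orderOf g = N → d ∣ N →
          ∃ x : ↥(Cfsg.Lie.twistedG2 K (3 ^ m)), orderOf x = d := by
        intro g N hg hd
        obtain ⟨c, hc⟩ := hd
        have hN := orderOf_pos g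
        have hc0 : c ≠ 0 := fun e => by rw [hg, hc, e, mul_zero] at hN; omega
        exact ⟨g ^ c, by rw [orderOf_pow' g hc0, hg, hc, Nat.gcd_eq_right (dvd_mul_left c d),
          Nat.mul_div_cancel _ (Nat.pos_of_ne_zero hc0)]⟩
      have hcnt : ∀ N, Nat.card {g : ↥(Cfsg.Lie.twistedG2 K (3 ^ m)) // orderOf g = N} ≠ 0 →
          ∃ g : ↥(Cfsg.Lie.twistedG2 K (3 ^ m)), orderOf g = N := fun N h =>
        let ⟨g, hg⟩ := (Nat.card_ne_zero.1 h).1; ⟨g, hg⟩
      rintro (h | h | h | h | h | h)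
      · obtain ⟨g, hg⟩ := hcnt 6 (by
          rw [card_orderOf_six f hf hK hm]
          simp only [← hqdef]
          simp <;> omega)
        exact hdown g 6 hg (by simpa using h)
      · obtain ⟨g, hg⟩ := hcnt 9 (by
          rw [card_orderOf_nine f hf hK]
          simp only [← hqdef]
          simp <;> omega)
        exact hdown g 9 hg (by simpa using h)
      · obtain ⟨g, -, hg⟩ := exists_HH_generator f hf hK (m := m)
        exact hdown g _ hg h
      · refine hdown (iota f hf hK * ww f hf hK hm) (2 * qk m) ?_ h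
        have hc : Commute (iota f hf hK) (ww f hf hK hm) :=
          ((Subgroup.mem_centralizer_singleton_iff.1 (ww_mem f hf hK hm)) : _).symm
        rw [hc.orderOf_mul_eq_mul_orderOf_of_coprime, orderOf_iota f hf hK, orderOf_ww f hf hK hm]
        rw [orderOf_iota f hf hK, orderOf_ww f hf hK hm]
        exact Nat.prime_two.coprime_iff_not_dvd.2 (by omega)
      · obtain ⟨g, hg⟩ := hAc.exists_ofOrder_eq_natCard (α := ↥A)
        exact hdown (g : ↥(Cfsg.Lie.twistedG2 K (3 ^ m))) _ (by rw [Subgroup.orderOf_coe, hg]) h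
      · obtain ⟨g, hg⟩ := hBc.exists_ofOrder_eq_natCard (α := ↥B)
        exact hdown (g : ↥(Cfsg.Lie.twistedG2 K (3 ^ m))) _ (by rw [Subgroup.orderOf_coe, hg]) h

end Cfsg.Agent.Grp.CubeSpectrum
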