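import Mathlib

/-!
# Spectra of semidirect products `V ⋊ T` with `V` a sum of cyclotomic rings

`T` is a finite abelian group; every index `j` gives a homomorphism `e j : T →+ ℤ/n`, and `T` acts on
copies of `(ℤ/r j)[μ]`, `Φ_n(μ) = 0`, through the powers of `μ`.
-/

set_option autoImplicit false

namespace Cfsg.Agent.Grp.CubeSpectrum

open Polynomial

/-- `(ℤ/r)[μ]` with `Φ_n(μ) = 0` -/
abbrev CR (n r : ℕ) : Type := AdjoinRoot (cyclotomic n (ZMod r))

section Ring

variable (n r : ℕ)

/-- the powers of `μ` -/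
noncomputable def mu (a : ZMod n) : CR n r := AdjoinRoot.root (cyclotomic n (ZMod r)) ^ a.val

theorem root_pow_n : AdjoinRoot.root (cyclotomic n (ZMod r)) ^ n = 1 := by
  rw [← AdjoinRoot.mk_X, ← map_pow, ← map_one (AdjoinRoot.mk (cyclotomic n (ZMod r))),
    AdjoinRoot.mk_eq_mk]
  exact cyclotomic.dvd_X_pow_sub_one n (ZMod r)

theorem mu_zero : mu n r 0 = 1 := by rw [mu, ZMod.val_zero, pow_zero]

theorem mu_add [NeZero n] (a b : ZMod n) : mu n r (a + b) = mu n r a * mu n r b := by
  rw [mu, mu, mu, ← pow_add, ZMod.val_add]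
  exact (pow_eq_pow_mod _ (root_pow_n n r)).symm

theorem natCast_eq_zero [NeZero n] {r : ℕ} (hr : 1 < r) (k : ℕ) : (k : CR n r) = 0 ↔ r ∣ k := by
  haveI := Fact.mk hr
  rw [← map_natCast (AdjoinRoot.mk (cyclotomic n (ZMod r))), AdjoinRoot.mk_eq_zero]
  refine ⟨fun h => ?_, fun h => ?_⟩
  · rw [← ZMod.natCast_eq_zero_iff]
    by_contra hk
    have hk' : ((k : (ZMod r)[X])) ≠ 0 := by
      rw [← C_eq_natCast, Ne, C_eq_zero]; exact hk
    refine (cyclotomic.monic n (ZMod r)).not_dvd_of_natDegree_lt hk' ?_ h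
    rw [natDegree_natCast, natDegree_cyclotomic]
    exact Nat.totient_pos.2 (NeZero.pos n)
  · rw [← C_eq_natCast, (ZMod.natCast_eq_zero_iff k r).2 h, map_zero]
    exact dvd_zero _

theorem nontrivial_CR [NeZero n] {r : ℕ} (hr : 1 < r) : Nontrivial (CR n r) :=
  ⟨1, 0, fun e => by
    have := (natCast_eq_zero n hr 1).1 (by simpa using e)
    exact absurd (Nat.dvd_one.1 this) (by omega)⟩

theorem finite_CR {r : ℕ} (hr : 1 < r) : Finite (CR n r) := by
  haveI : NeZero r := ⟨by omega⟩
  haveI := (cyclotomic.monic n (ZMod r)).finite_adjoinRoot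
  exact Module.finite_of_finite (ZMod r)

theorem eq_zero_of_fixed [NeZero n] {r : ℕ} (hnr : n.Coprime r) {a : ZMod n} (ha : a ≠ 0)
    {v : CR n r} (hv : mu n r a * v = v) : v = 0 := by
  set μ := AdjoinRoot.root (cyclotomic n (ZMod r)) with hμ
  set g := Nat.gcd a.val n with hg
  have hgv : μ ^ g * v = v := by
    have h1 : Function.IsPeriodicPt (μ * ·) a.val v := by
      rw [Function.IsPeriodicPt, Function.IsFixedPt, mul_left_iterate]
      exact hv
    have h2 : Function.IsPeriodicPt (μ * ·) n v := by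
      rw [Function.IsPeriodicPt, Function.IsFixedPt, mul_left_iterate]
      show μ ^ n * v = v
      rw [hμ, root_pow_n, one_mul]
    have h3 := h1.gcd h2
    rw [Function.IsPeriodicPt, Function.IsFixedPt, mul_left_iterate] at h3
    exact h3
  have hgn : g ∈ n.properDivisors := by
    rw [Nat.mem_properDivisors]
    refine ⟨Nat.gcd_dvd_right _ _, lt_of_le_of_lt (Nat.gcd_le_left _ ?_) (ZMod.val_lt a)⟩
    exact Nat.pos_of_ne_zero ((ZMod.val_ne_zero a).2 ha)
  obtain ⟨⟨k, hk⟩, hlt⟩ := Nat.mem_properDivisors.1 hgn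
  have hdvd : cyclotomic n (ZMod r) ∣ ∑ i ∈ Finset.range k, ((X : (ZMod r)[X]) ^ g) ^ i := by
    obtain ⟨c, hc⟩ := X_pow_sub_one_mul_cyclotomic_dvd_X_pow_sub_one_of_dvd (ZMod r) hgn
    refine ⟨c, ?_⟩
    have hg0 : 0 < g := Nat.gcd_pos_of_pos_right _ (NeZero.pos n)
    refine (monic_X_pow_sub_C (1 : ZMod r) hg0.ne').isRegular.left ?_
    show (X ^ g - C 1) * _ = (X ^ g - C 1) * _
    rw [map_one, ← mul_assoc, ← hc, mul_geom_sum, ← pow_mul, ← hk]
  have hsum : ∑ i ∈ Finset.range k, (μ ^ g) ^ i = 0 := by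
    have := AdjoinRoot.mk_eq_zero.2 hdvd
    simpa using this
  have hfix : ∀ i : ℕ, (μ ^ g) ^ i * v = v := fun i => by
    induction i with
    | zero => simp
    | succ i ih => rw [pow_succ, mul_assoc, hgv, ih]
  have hkv : (k : CR n r) * v = 0 := by
    calc (k : CR n r) * v = ∑ i ∈ Finset.range k, (μ ^ g) ^ i * v := by
          simp only [hfix, Finset.sum_const, Finset.card_range, nsmul_eq_mul]
      _ = 0 := by rw [← Finset.sum_mul, hsum, zero_mul]
  have hku : IsUnit (k : CR n r) := by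
    have : IsUnit (k : ZMod r) :=
      (ZMod.isUnit_iff_coprime k r).2 (hnr.coprime_dvd_left ⟨g, by rw [hk]; ring⟩)
    simpa using this.map (AdjoinRoot.of (cyclotomic n (ZMod r)))
  exact hku.mul_right_eq_zero.1 hkv

theorem sum_mu_eq_zero [NeZero n] {r : ℕ} (hnr : n.Coprime r) {a : ZMod n} (ha : a ≠ 0) {k : ℕ}
    (hk : k • a = 0) : ∑ i ∈ Finset.range k, mu n r (i • a) = 0 := by
  refine eq_zero_of_fixed n hnr ha ?_
  rw [Finset.mul_sum]
  simp only [← mu_add, ← succ_nsmul']
  have h1 := Finset.sum_range_succ' (fun i => mu n r (i • a)) k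
  rw [Finset.sum_range_succ, hk, zero_nsmul] at h1
  exact (add_right_cancel h1).symm

end Ring

variable {T J : Type} [AddCommGroup T] {n : ℕ} [NeZero n]

/-- the group `V ⋊ T` -/
@[ext] structure SD (M : ℕ) (e : J → T →+ ZMod n) (r : J → ℕ) where
  v : ∀ j, Fin M → CR n (r j)
  t : T

namespace SD

variable {M : ℕ} {e : J → T →+ ZMod n} {r : J → ℕ}

/-- the action -/
noncomputable def act (e : J → T →+ ZMod n) (r : J → ℕ) (t : T) : ∀ j, Fin M → CR n (r j) :=
  fun j _ => mu n (r j) (e j t)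

theorem act_zero : (act e r 0 : ∀ j, Fin M → CR n (r j)) = 1 := by
  funext j i; simp [act, mu_zero]

theorem act_add (a b : T) : (act e r (a + b) : ∀ j, Fin M → CR n (r j)) = act e r a * act e r b := by
  funext j i; simp [act, mu_add]

noncomputable instance : Mul (SD M e r) := ⟨fun x y => ⟨x.v + act e r x.t * y.v, x.t + y.t⟩⟩
noncomputable instance : One (SD M e r) := ⟨⟨0, 0⟩⟩
noncomputable instance : Inv (SD M e r) := ⟨fun x => ⟨-(act e r (-x.t) * x.v), -x.t⟩⟩

theorem mul_def (x y : SD M e r) : x * y = ⟨x.v + act e r x.t * y.v, x.t + y.t⟩ := rfl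

theorem one_def : (1 : SD M e r) = ⟨0, 0⟩ := rfl

noncomputable instance : Group (SD M e r) :=
  Group.ofLeftAxioms
    (fun x y z => by ext1 <;> simp only [mul_def, act_add, mul_add, mul_assoc, add_assoc])
    (fun x => by
      rw [mul_def, one_def]
      show (⟨(0 : ∀ j, Fin M → CR n (r j)) + act e r 0 * x.v, 0 + x.t⟩ : SD M e r) = x
      rw [act_zero, one_mul, zero_add, zero_add])
    (fun x => by
      show (⟨-(act e r (-x.t) * x.v) + act e r (-x.t) * x.v, -x.t + x.t⟩ : SD M e r) = ⟨0, 0⟩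
      rw [neg_add_cancel, neg_add_cancel])

theorem pow_t (x : SD M e r) (k : ℕ) : (x ^ k).t = k • x.t := by
  induction k with
  | zero => simp [one_def]
  | succ k ih => rw [pow_succ, mul_def, ih, succ_nsmul]

theorem pow_v (x : SD M e r) (k : ℕ) :
    (x ^ k).v = ∑ i ∈ Finset.range k, act e r (i • x.t) * x.v := by
  induction k with
  | zero => simp [one_def]
  | succ k ih => rw [pow_succ, mul_def, ih, Finset.sum_range_succ, pow_t]

/-- the coordinates -/
def equivProd : SD M e r ≃ (∀ j, Fin M → CR n (r j)) × T where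
  toFun x := (x.v, x.t)
  invFun p := ⟨p.1, p.2⟩
  left_inv _ := rfl
  right_inv _ := rfl

/-- the least common multiple of the moduli at the coordinates fixed by `t` -/
def fixLcm [Fintype J] (e : J → T →+ ZMod n) (r : J → ℕ) (t : T) : ℕ :=
  (Finset.univ.filter fun j => e j t = 0).lcm r

variable [Fintype J]

theorem dvd_fixLcm {j : J} {t : T} (h : e j t = 0) : r j ∣ fixLcm e r t :=
  Finset.dvd_lcm (Finset.mem_filter.2 ⟨Finset.mem_univ _, h⟩)

theorem fixLcm_mono (k : ℕ) (t : T) : fixLcm e r t ∣ fixLcm e r (k • t) :=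
  Finset.lcm_dvd fun j hj => dvd_fixLcm (by rw [map_nsmul, (Finset.mem_filter.1 hj).2, nsmul_zero])

theorem finite_SD [Finite T] (hr : ∀ j, 1 < r j) : Finite (SD M e r) := by
  haveI : ∀ j, Finite (CR n (r j)) := fun j => finite_CR n (hr j)
  exact Finite.of_equiv _ (equivProd (M := M) (e := e) (r := r)).symm

theorem card_gt [Finite T] (hr : ∀ j, 1 < r j) (j₀ : J) : M ≤ Nat.card (SD M e r) := by
  classical
  haveI := finite_SD (M := M) (e := e) hr
  haveI := nontrivial_CR n (hr j₀)
  have hinj : Function.Injective fun i : Fin M =>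
      (⟨Pi.single j₀ (Pi.single i 1), 0⟩ : SD M e r) := by
    intro a b h
    have h' := congrFun (congrFun (congrArg SD.v h) j₀) a
    simp only [Pi.single_eq_same] at h'
    by_contra hab
    rw [Pi.single_eq_of_ne hab] at h'
    exact one_ne_zero h'
  simpa using Nat.card_le_card_of_injective _ hinj

theorem pow_addOrderOf_mul_fixLcm (hn : ∀ j, n.Coprime (r j)) (x : SD M e r) :
    x ^ (addOrderOf x.t * fixLcm e r x.t) = 1 := by
  rw [pow_mul]
  have ht : (x ^ addOrderOf x.t).t = 0 := by rw [pow_t, addOrderOf_nsmul_eq_zero]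
  refine SD.ext ?_ (by rw [pow_t, ht, nsmul_zero, one_def])
  rw [pow_v, ht, one_def]
  funext j i
  simp only [nsmul_zero, act_zero, one_mul, Finset.sum_const, Finset.card_range, Pi.smul_apply,
    Pi.zero_apply]
  by_cases hj : e j x.t = 0
  · obtain ⟨c, hc⟩ := dvd_fixLcm (r := r) hj
    have : ((r j : ℕ) : CR n (r j)) = 0 := by
      rw [← map_natCast (AdjoinRoot.of (cyclotomic n (ZMod (r j)))), ZMod.natCast_self, map_zero]
    rw [nsmul_eq_mul, hc, Nat.cast_mul, this, zero_mul, zero_mul]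
  · have hz : addOrderOf x.t • e j x.t = 0 := by
      rw [← map_nsmul, addOrderOf_nsmul_eq_zero, map_zero]
    rw [pow_v, Finset.sum_apply, Finset.sum_apply]
    simp only [act, Pi.mul_apply, map_nsmul]
    rw [← Finset.sum_mul, sum_mu_eq_zero n (hn j) hj hz, zero_mul, nsmul_zero]

theorem exists_order [Finite T] (hr : ∀ j, 1 < r j)
    (hcop : ∀ (t : T) (j : J), (addOrderOf t).Coprime (r j)) {d : ℕ} {t : T}
    (hd : d ∣ addOrderOf t * fixLcm e r t) : ∃ x : SD (M + 1) e r, orderOf x = d := by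
  classical
  have hcP : ∀ s : T, (addOrderOf s).Coprime (fixLcm e r s) := fun s =>
    Nat.Coprime.coprime_dvd_right (Finset.lcm_dvd fun j _ => Finset.dvd_prod_of_mem r (Finset.mem_univ j))
      (Nat.Coprime.prod_right fun j _ => hcop s j)
  obtain ⟨a, b, ha, hb, rfl⟩ := exists_dvd_and_dvd_of_dvd_mul hd
  have hab : a.Coprime b := ((hcP t).coprime_dvd_left ha).coprime_dvd_right hb
  obtain ⟨c, hc⟩ := ha
  have hT := addOrderOf_pos t
  have hc0 : c ≠ 0 := fun e => by rw [e, mul_zero] at hc; omega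
  have hs : addOrderOf (c • t) = a := by
    rw [addOrderOf_nsmul' t hc0, hc, Nat.gcd_eq_right (dvd_mul_left c a),
      Nat.mul_div_cancel _ (Nat.pos_of_ne_zero hc0)]
  have hbs : b ∣ fixLcm e r (c • t) := hb.trans (fixLcm_mono c t)
  set P := fixLcm e r (c • t) with hP
  have hP0 : P ≠ 0 := fun h => by
    obtain ⟨j, -, hj⟩ := Finset.lcm_eq_zero_iff.1 h
    have := hr j
    omega
  obtain ⟨f, hf⟩ := hbs
  let u : SD (M + 1) e r := ⟨fun j _ => if e j (c • t) = 0 then (f : CR n (r j)) else 0, 0⟩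
  let w : SD (M + 1) e r := ⟨0, c • t⟩
  have hu : orderOf u = b := by
    have key : ∀ k : ℕ, u ^ k = 1 ↔ b ∣ k := fun k => by
      rw [SD.ext_iff, pow_v, pow_t]
      simp only [u, one_def, nsmul_zero, act_zero, one_mul, Finset.sum_const, Finset.card_range,
        and_true]
      constructor
      · intro h
        have hPk : P ∣ k * f := Finset.lcm_dvd fun j hj => by
          have hj' : e j (c • t) = 0 := (Finset.mem_filter.1 hj).2
          have h' := congrFun (congrFun h j) 0
          simp only [Pi.smul_apply, hj', if_true, nsmul_eq_mul, Pi.zero_apply] at h'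
          exact (natCast_eq_zero n (hr j) (k * f)).1 (by rw [Nat.cast_mul]; exact h')
        rw [hf] at hPk
        refine Nat.dvd_of_mul_dvd_mul_right (Nat.pos_of_ne_zero fun h0 => hP0 ?_) hPk
        rw [hf, h0, mul_zero]
      · rintro ⟨q, rfl⟩
        funext j i
        simp only [Pi.smul_apply, Pi.zero_apply]
        split_ifs with hj
        · rw [nsmul_eq_mul, ← Nat.cast_mul, natCast_eq_zero n (hr j)]
          refine (dvd_fixLcm (r := r) hj).trans ?_
          rw [← hP, hf]
          exact ⟨q, by ring⟩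
        · exact nsmul_zero _
    exact Nat.dvd_antisymm (orderOf_dvd_of_pow_eq_one ((key b).2 dvd_rfl))
      ((key _).1 (pow_orderOf_eq_one u))
  have hw : orderOf w = a := by
    rw [← hs]
    refine (orderOf_eq_orderOf_iff.2 ?_).trans (orderOf_ofAdd_eq_addOrderOf (c • t))
    intro k
    rw [SD.ext_iff, pow_v, pow_t, ← ofAdd_nsmul, ofAdd_eq_one]
    simp [w, one_def]
  have hcomm : Commute u w := by
    refine SD.ext ?_ (add_comm _ _)
    funext j i
    simp only [u, w, mul_def, act_zero, mul_zero, add_zero, Pi.mul_apply, zero_add,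
      act]
    split_ifs with hj
    · rw [hj, mu_zero, one_mul]
    · rw [mul_zero]
  refine ⟨u * w, ?_⟩
  rw [hcomm.orderOf_mul_eq_mul_orderOf_of_coprime (by rw [hu, hw]; exact hab.symm), hu, hw, mul_comm]

theorem range_orderOf [Finite T] (hr : ∀ j, 1 < r j) (hn : ∀ j, n.Coprime (r j))
    (hcop : ∀ (t : T) (j : J), (addOrderOf t).Coprime (r j)) :
    Set.range (orderOf : SD (M + 1) e r → ℕ) =
      {d | ∃ t : T, d ∣ addOrderOf t * fixLcm e r t} := by
  ext d
  refine ⟨?_, fun ⟨t, h⟩ => exists_order hr hcop h⟩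
  rintro ⟨x, rfl⟩
  exact ⟨x.t, orderOf_dvd_of_pow_eq_one (pow_addOrderOf_mul_fixLcm hn x)⟩

end SD

end Cfsg.Agent.Grp.CubeSpectrum
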